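import Groth.Agent.CechKoszul.Scheme2
import Groth.Agent.LocCohLib.BaseRing
import Groth.Prelude.Def_Wider

/-!
Cohomology of a quasi-coherent sheaf on a punctured spectrum and local cohomology.
-/

set_option autoImplicit false
universe u

open CategoryTheory CategoryTheory.Limits Opposite AlgebraicGeometry TopologicalSpace

namespace Groth.Agent.PuncturedU

variable {R : Type u} [CommRing R]

/-- The global functions of a spectrum. -/
abbrev GR (R : Type u) [CommRing R] : Type u := Γ(Spec (CommRingCat.of R), ⊤)

noncomputable scoped instance algGR : Algebra R (GR R) := ((Scheme.ΓSpecIso (CommRingCat.of R)).inv).hom.toAlgebra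

lemma algebraMap_GR (r : R) : algebraMap R (GR R) r = (Scheme.ΓSpecIso (CommRingCat.of R)).inv r := rfl

lemma isNoetherianRing_GR [IsNoetherianRing R] : IsNoetherianRing (GR R) :=
  isNoetherianRing_of_ringEquiv R (Scheme.ΓSpecIso (CommRingCat.of R)).commRingCatIsoToRingEquiv.symm

/-- The global sections of `M~` are `M`. -/
theorem nonempty_top_equiv (M : Type u) [AddCommGroup M] [Module R M] :
    Nonempty (M ≃ₗ[R] (LocCohLib.res R (GR R)).obj
      (CechKoszul.gMod (AlgebraicGeometry.tilde (R := CommRingCat.of R) (ModuleCat.of R M)))) := by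
  let e := (tilde.isoTop (R := CommRingCat.of R) (ModuleCat.of R M)).toLinearEquiv
  exact ⟨{ toFun := fun x => e x
           invFun := fun x => e.symm x
           left_inv := fun x => e.symm_apply_apply x
           right_inv := fun x => e.apply_symm_apply x
           map_add' := fun x y => map_add e x y
           map_smul' := fun r x => map_smul e r x }⟩

lemma bW_map_eq (as : List R) :
    CechKoszul.bW (X := Spec (CommRingCat.of R)) (as.map (algebraMap R (GR R))) =
      LocCoh.puncturedOpen R (Ideal.span {a | a ∈ as}) := by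
  ext x
  simp only [Opens.coe_iSup, Set.mem_iUnion, SetLike.mem_coe]
  constructor
  · rintro ⟨i, hi⟩
    obtain ⟨a, ha, he⟩ := List.mem_map.1 (List.get_mem _ i)
    rw [← he, algebraMap_GR, basicOpen_eq_of_affine] at hi
    intro hx
    exact hi (hx (Ideal.subset_span ha))
  · intro hx
    by_contra h
    refine hx ?_
    change (Ideal.span {a | a ∈ as} : Set R) ⊆ _
    rw [SetLike.coe_subset_coe, Ideal.span_le]
    intro a ha
    by_contra hax
    obtain ⟨i, hi⟩ := List.mem_iff_get.1 (List.mem_map_of_mem (f := algebraMap R (GR R)) ha)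
    refine h ⟨i, ?_⟩
    rw [hi, algebraMap_GR, basicOpen_eq_of_affine]
    exact hax

variable [IsNoetherianRing R]

/-- Local cohomology as direct-limit Koszul cohomology over the global functions. -/
theorem nonempty_H_lim_equiv (as : List R) (M : Type u) [AddCommGroup M] [Module R M] (i : ℕ) :
    Nonempty (LocCoh.H (Ideal.span {a | a ∈ as}) i M ≃+
      KoszulCone.Lim (CechKoszul.gMod (AlgebraicGeometry.tilde (R := CommRingCat.of R) (ModuleCat.of R M)))
        (as.map (algebraMap R (GR R))) ((i : ℤ) - (as.map (algebraMap R (GR R))).length)) := by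
  haveI := isNoetherianRing_GR (R := R)
  obtain ⟨e⟩ := nonempty_top_equiv (R := R) M
  let G := CechKoszul.gMod (AlgebraicGeometry.tilde (R := CommRingCat.of R) (ModuleCat.of R M))
  obtain ⟨e1⟩ := LocCohLib.nonempty_resEquiv (R := R) (R' := GR R) (Ideal.span {a | a ∈ as}) i G
  have hI : (Ideal.span {a | a ∈ as}).map (algebraMap R (GR R)) =
      Ideal.span {a | a ∈ as.map (algebraMap R (GR R))} := by
    rw [Ideal.map_span]
    congr 1
    ext x
    simp
  obtain ⟨e2⟩ := KoszulCone.nonempty_localCohomology_equiv (as.map (algebraMap R (GR R))) i G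
  rw [hI] at e1
  exact ⟨((((localCohomology (Ideal.span {a | a ∈ as}) i).mapIso e.toModuleIso).toLinearEquiv.trans e1.symm)
    |>.toAddEquiv).trans e2.toAddEquiv⟩

/-- `H^p(U, M~) = H^{p+1}_I(M)` on the punctured spectrum. -/
theorem nonempty_HHon_equiv (I : Ideal R) (M : Type u) [AddCommGroup M] [Module R M] (p : ℕ) (hp : 1 ≤ p) :
    Nonempty (Coh.HHon (Spec (CommRingCat.of R)) (AlgebraicGeometry.tilde (R := CommRingCat.of R) (ModuleCat.of R M))
      (LocCoh.puncturedOpen R I) p ≃+ LocCoh.H I (p + 1) M) := by
  obtain ⟨s, hs⟩ := (IsNoetherian.noetherian I : I.FG)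
  have hI : I = Ideal.span {a | a ∈ s.toList} := by rw [← hs]; congr 1; ext x; simp
  subst hI
  rw [← bW_map_eq]
  let F : (Spec (CommRingCat.of R)).Modules := AlgebraicGeometry.tilde (R := CommRingCat.of R) (ModuleCat.of R M)
  have haff : ∀ i, IsAffineOpen ((Spec (CommRingCat.of R)).basicOpen ((s.toList.map (algebraMap R (GR R))).get i)) :=
    fun i => (isAffineOpen_top _).basicOpen _
  obtain ⟨e⟩ := CechKoszul.nonempty_HHon_equiv (X := Spec (CommRingCat.of R)) (s.toList.map (algebraMap R (GR R))) F haff p
  obtain ⟨e'⟩ := CechKoszul.nonempty_H_rsh_lim_equiv (X := Spec (CommRingCat.of R)) (s.toList.map (algebraMap R (GR R))) F p hp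
  obtain ⟨e''⟩ := nonempty_H_lim_equiv s.toList M (p + 1)
  exact ⟨(e.trans e'.toAddEquiv).trans e''.symm⟩

end Groth.Agent.PuncturedU
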